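import Cfsg.Agent.McLSimple.Main
import Cfsg.Agent.Golay.MathieuFusion

/-!
The 2-fusion system of the McLaughlin group is simple: a Sylow 2-subgroup of the stabiliser of a
third vector has odd index, fixes only that vector of its kind, and so is self-normalising.
-/

set_option autoImplicit false
set_option maxRecDepth 100000
set_option linter.style.haveILetI false

namespace CfsgLib.McLFusion

open Cfsg CfsgLib CfsgLib.Golay CfsgLib.Golay.SylowCert MulAction Cfsg.Agent.McLSimple

/-- The central criterion, checked in an isomorphic group. -/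
theorem isSimple_of_equiv {G H : Type*} [Group G] [Finite G] [Group H] [Finite H] (φ : G ≃* H)
    (Q : Sylow 2 H) {z : H} (hz : z ∈ (Q : Subgroup H)) (hz1 : z ≠ 1)
    (hcent : ∀ x ∈ (Q : Subgroup H), (∀ y ∈ (Q : Subgroup H), x * y = y * x) → x = 1 ∨ x = z)
    (hgen : ∀ T : Subgroup H, z ∈ T →
      (∀ x ∈ T, ∀ g : H, g * x * g⁻¹ ∈ (Q : Subgroup H) → g * x * g⁻¹ ∈ T) →
      (Q : Subgroup H) ≤ T)
    (hN : ∀ n ∈ Subgroup.normalizer ((Q : Subgroup H) : Set H), ∀ q k : ℕ, q.Prime → q ≠ 2 →
      orderOf n = q ^ k → ∀ y ∈ (Q : Subgroup H), n * y * n⁻¹ = y)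
    (S : Sylow 2 G) : (groupFusionSystem (S : Subgroup G)).IsSimple 2 := by
  let P : Sylow 2 G := Q.comapOfInjective φ.toMonoidHom φ.injective (by
    intro x _; exact ⟨φ.symm x, φ.apply_symm_apply x⟩)
  have hP : ∀ x, x ∈ (P : Subgroup G) ↔ φ x ∈ (Q : Subgroup H) := fun x => Iff.rfl
  refine Fusion.isSimple_groupFusion_of_central P (z := φ.symm z) ((hP _).2 (by simpa using hz))
    (fun h => hz1 (by simpa using congrArg φ h)) ?_ ?_ ?_ S
  · intro x hx hc
    refine (hcent (φ x) hx fun y hy => ?_).imp (fun h => φ.injective (h.trans (map_one φ).symm))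
      (fun h => φ.eq_symm_apply.2 h)
    have h := congrArg φ (hc (φ.symm y) ((hP _).2 (by simpa using hy)))
    simpa using h
  · intro T hT hcl x hx
    have h := hgen (T.comap φ.symm.toMonoidHom) hT (fun u hu g hg => by
      show φ.symm (g * u * g⁻¹) ∈ T
      rw [map_mul, map_mul, map_inv]
      exact hcl _ hu _ ((hP _).2 (by simpa using hg))) hx
    simpa using h
  · intro n hn q k hq hq2 hord y hy
    refine φ.injective ?_
    rw [map_mul, map_mul, map_inv]
    refine hN (φ n) (Subgroup.mem_normalizer_iff.2 fun u => ?_) q k hq hq2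
      (by rw [MulEquiv.orderOf_eq]; exact hord) _ hy
    have h := Subgroup.mem_normalizer_iff.1 hn (φ.symm u)
    simp only [hP, map_mul, map_inv, MulEquiv.apply_symm_apply] at h
    exact h

/-- The representatives of the orbits of the 2-group on the positions. -/
def rep (p : GolayPt) : GolayPt :=
  if idx p = 23 then none else if idx p = 0 then some 0
  else if idx p ∈ [6, 11] then pt 6 else if idx p ∈ [1, 14, 15, 16] then pt 1 else pt 2

theorem rep_reach : ∀ p : GolayPt, ∃ L ∈ els m22Pc 7, L.getD (idx p) 0 = idx (rep p) := by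
  decide +kernel

theorem sol_check : (rng.all fun a => rng.all fun b => rng.all fun c => rng.all fun d => rng.all fun e =>
    !(decide (a * a + b * b + 2 * (c * c) + 4 * (d * d) + 16 * (e * e) = 32) &&
      decide ((a + b + 2 * c + 4 * d + 16 * e) + 4 * a = 16) && decide (a + b = 0)) ||
    (decide (a = 4) && decide (b = -4) && decide (c = 0) && decide (d = 0) && decide (e = 0))) = true := by
  decide +kernel

theorem rep_split (f : GolayPt → ℤ) :
    ∑ p, f (rep p) = f none + f (some 0) + 2 * f (pt 6) + 4 * f (pt 1) + 16 * f (pt 2) := by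
  have h : (Finset.univ : Finset GolayPt).image rep = {none, some 0, pt 6, pt 1, pt 2} := by decide +kernel
  rw [← Finset.sum_fiberwise_of_maps_to (t := {none, some 0, pt 6, pt 1, pt 2}) (g := rep)
    (fun p hp => h ▸ Finset.mem_image_of_mem _ hp)]
  rw [Finset.sum_congr rfl fun q _ => Finset.sum_congr rfl (g := fun _ => f q) fun p hp => by
    rw [(Finset.mem_filter.mp hp).2]]
  have c1 : ((Finset.univ : Finset GolayPt).filter fun p => rep p = none).card = 1 := by decide +kernel
  have c2 : ((Finset.univ : Finset GolayPt).filter fun p => rep p = some 0).card = 1 := by decide +kernel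
  have c3 : ((Finset.univ : Finset GolayPt).filter fun p => rep p = pt 6).card = 2 := by decide +kernel
  have c4 : ((Finset.univ : Finset GolayPt).filter fun p => rep p = pt 1).card = 4 := by decide +kernel
  have c5 : ((Finset.univ : Finset GolayPt).filter fun p => rep p = pt 2).card = 16 := by decide +kernel
  rw [Finset.sum_insert (by decide +kernel), Finset.sum_insert (by decide +kernel),
    Finset.sum_insert (by decide +kernel), Finset.sum_pair (by decide +kernel)]
  simp only [Finset.sum_const, c1, c2, c3, c4, c5, nsmul_eq_mul, Nat.cast_one, one_mul, Nat.cast_ofNat]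
  ring

/-- The two-point stabiliser in the group of the code. -/
abbrev M : Subgroup M24 := stabilizer M24 (none : GolayPt) ⊓ stabilizer M24 (some 0 : GolayPt)

/-- Its inclusion into permutations. -/
noncomputable def iM : M →* Equiv.Perm GolayPt := M24.subtype.comp M.subtype

/-- The 2-group inside it. -/
noncomputable def PM : Subgroup M := (pcGroup m22Pc 7).comap iM

/-- Its inclusion into the stabiliser of two vectors. -/
noncomputable def j : M →* mclStab :=
  (Subgroup.inclusion (inf_le_left : tripleStab ≤ mclStab)).comp tripleEquiv.toMonoidHom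

theorem j_injective : Function.Injective j :=
  (Subgroup.inclusion_injective (inf_le_left : tripleStab ≤ mclStab)).comp tripleEquiv.injective

theorem j_val (σ : M) : ((j σ : mclStab) : Co0) = Leech.permHom (σ : M24) := rfl

theorem pc_mem {σ : Equiv.Perm GolayPt} (hσ : σ ∈ pcGroup m22Pc 7) : ∃ m : M, iM m = σ := by
  have h22 : pcGroup m22Pc 7 ≤ iM.range := by
    refine pcGroup_le pc22 fun g hg => ?_
    obtain ⟨⟨h, h0⟩, h1⟩ := permL_mem_M22 (in22 g hg)
    exact ⟨⟨⟨permL g, h⟩, h0, h1⟩, rfl⟩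
  exact h22 hσ

theorem iM_injective : Function.Injective iM := fun _ _ h => Subtype.ext (Subtype.ext h)

theorem card_PM : Nat.card PM = 128 := by
  rw [← Subgroup.card_map_of_injective iM_injective, PM,
    Subgroup.map_comap_eq_self fun σ hσ => pc_mem hσ,
    show (7 : ℕ) = m22Pc.length from rfl, card_pcGroup pc22 _ le_rfl]
  rfl

theorem fixed_unique {x : leechLattice} (hx : InZ x)
    (hfix : ∀ m ∈ PM, (j m : mclStab) • x = x) : x = Spor.leechU' := by
  obtain ⟨hn, hsum, hab⟩ := hx
  have hconst : ∀ p, (x : GolayPt → ℤ) p = (x : GolayPt → ℤ) (rep p) := by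
    intro p
    obtain ⟨L, hL, hLp⟩ := rep_reach p
    obtain ⟨σ, hσ, rfl⟩ := exists_of_mem_els pc22 7 le_rfl L hL
    obtain ⟨m, rfl⟩ := pc_mem hσ
    rw [toList_getD_idx] at hLp
    have h := congrFun (congrArg Subtype.val (hfix m hσ)) (rep p)
    change ((Leech.permHom (m : M24) • x : leechLattice) : GolayPt → ℤ) (rep p) = _ at h
    rw [Leech.permHom_apply, ← idx_injective hLp] at h
    have e : ((m : M24) : Equiv.Perm GolayPt)⁻¹ (iM m p) = p :=
      Equiv.symm_apply_apply ((m : M24) : Equiv.Perm GolayPt) p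
    rw [e] at h
    rw [← idx_injective hLp]
    exact h
  have hs : ∑ p, (x : GolayPt → ℤ) p = _ :=
    (Finset.sum_congr rfl fun p _ => hconst p).trans (rep_split _)
  have hq : sqNorm (x : GolayPt → ℤ) = _ :=
    (Finset.sum_congr rfl fun p _ => by rw [hconst p]; ring).trans
      (rep_split fun p => (x : GolayPt → ℤ) p * (x : GolayPt → ℤ) p)
  rw [hs] at hsum
  rw [hn] at hq
  have h5 := List.all_eq_true.mp (List.all_eq_true.mp (List.all_eq_true.mp (List.all_eq_true.mp
    (List.all_eq_true.mp sol_check _ (mem_rng hn none)) _ (mem_rng hn (some 0)))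
    _ (mem_rng hn (pt 6))) _ (mem_rng hn (pt 1))) _ (mem_rng hn (pt 2))
  simp only [Bool.or_eq_true, Bool.not_eq_true', Bool.and_eq_false_iff, decide_eq_false_iff_not,
    Bool.and_eq_true, decide_eq_true_eq] at h5
  rcases h5 with ((h | h) | h) | ⟨⟨⟨⟨ha, hb⟩, hc⟩, hd⟩, he⟩
  · exact absurd hq.symm h
  · exact absurd hsum h
  · exact absurd hab h
  refine Subtype.ext (funext fun p => ?_)
  rw [hconst p]
  show _ = Spor.vecU' p
  have hU : ∀ p, Spor.vecU' p = Spor.vecU' (rep p) ∧ (rep p = none ∨ rep p = some 0 ∨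
      rep p = pt 6 ∨ rep p = pt 1 ∨ rep p = pt 2) := by decide +kernel
  obtain ⟨h1, h | h | h | h | h⟩ := hU p <;> rw [h1, h]
  · rw [ha]; decide +kernel
  · rw [hb]; decide +kernel
  · rw [hc]; decide +kernel
  · rw [hd]; decide +kernel
  · rw [he]; decide +kernel

set_option maxHeartbeats 1600000 in
theorem odd_centralize {n : mclStab}
    (hn : n ∈ Subgroup.normalizer ((PM.map j : Subgroup mclStab) : Set mclStab)) {q k : ℕ}
    (hq : q.Prime) (hq2 : q ≠ 2) (hord : orderOf n = q ^ k) {y : mclStab} (hy : y ∈ PM.map j) :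
    n * y * n⁻¹ = y := by
  have hU : ((n : Co0) • Spor.leechU' : leechLattice) = Spor.leechU' := by
    refine fixed_unique (inZ_smul n.2 inZ_base) fun m hm => ?_
    have h1 := (Subgroup.mem_normalizer_iff.1 hn (n⁻¹ * j m * n)).2 (by
      simpa [mul_assoc] using Subgroup.mem_map_of_mem j hm)
    obtain ⟨m', -, hm'⟩ := h1
    have h2 : (j m' : mclStab) • Spor.leechU' = Spor.leechU' := (tripleEquiv m').2.2
    have e : j m = n * j m' * n⁻¹ := by rw [hm']; group
    show ((j m : mclStab) : Co0) • ((n : Co0) • Spor.leechU') = (n : Co0) • Spor.leechU'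
    rw [e, Subgroup.coe_mul, Subgroup.coe_mul, InvMemClass.coe_inv, mul_smul, mul_smul,
      inv_smul_smul]
    exact congrArg ((n : Co0) • ·) h2
  obtain ⟨σ, hσ⟩ : ∃ σ : M, j σ = n := by
    obtain ⟨σ, hσ⟩ := tripleEquiv.surjective ⟨(n : Co0), n.2, hU⟩
    exact ⟨σ, Subtype.ext (congrArg Subtype.val hσ :)⟩
  subst hσ
  obtain ⟨v, hv, rfl⟩ := hy
  rw [orderOf_injective j j_injective, ← orderOf_injective iM iM_injective] at hord
  have hnorm : ∀ τ, τ ∈ pcGroup m22Pc 7 ↔ iM σ * τ * (iM σ)⁻¹ ∈ pcGroup m22Pc 7 := by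
    intro τ
    have key : ∀ u : M, j u ∈ PM.map j ↔ iM u ∈ pcGroup m22Pc 7 := fun u =>
      Subgroup.mem_map_iff_mem j_injective
    constructor
    · intro hτ
      obtain ⟨u, rfl⟩ := pc_mem hτ
      rw [← map_inv, ← map_mul, ← map_mul, ← key, map_mul, map_mul, map_inv]
      exact (Subgroup.mem_normalizer_iff.1 hn _).1 ((key u).2 hτ)
    · intro hτ
      obtain ⟨u, hu⟩ := pc_mem hτ
      have e : τ = iM (σ⁻¹ * u * σ) := by rw [map_mul, map_mul, map_inv, hu]; group
      rw [e, ← key]
      refine (Subgroup.mem_normalizer_iff.1 hn _).2 ?_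
      rw [← map_inv, ← map_mul, ← map_mul, key]
      simpa [mul_assoc, hu] using hτ
  have hc := centralize_of_cert pc22 0 m22Labels labs22 m22Reps m22RepSteps (by decide +kernel)
    (by decide +kernel) (by decide +kernel) (by decide +kernel) (by decide +kernel) hnorm
    (fun p => by simp [Nat.zero_testBit]) hq hq2 hord (iM v) hv
  rw [← map_inv, ← map_mul, ← map_mul]
  refine congrArg j (iM_injective ?_)
  simpa using hc

set_option maxHeartbeats 800000 in
theorem fusion_simple {G : Type*} [Group G] [Finite G] (φ : G ≃* mclStab) (S : Sylow 2 G) :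
    (groupFusionSystem (S : Subgroup G)).IsSimple 2 := by
  haveI : Fact (Nat.Prime 2) := ⟨Nat.prime_two⟩
  have hfac : (Nat.card mclStab).factorization 2 = 7 :=
    factorization_two (m := 7016625) (by rw [card_mclStab]; norm_num) (by norm_num)
  let Q : Sylow 2 mclStab := Sylow.ofCard (PM.map j) (by
    rw [Subgroup.card_map_of_injective j_injective, card_PM, hfac]; rfl)
  have hQ : (Q : Subgroup mclStab) = PM.map j := Sylow.coe_ofCard ..
  have hlen : m22Pc.length = 7 := rfl
  have hE : ∀ σ, σ ∈ pcGroup m22Pc 7 ↔ toList σ ∈ els m22Pc 7 := mem_pcGroup pc22 7 le_rfl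
  have hz : m22Z ∈ els m22Pc 7 ∧ m22Z ≠ List.range 24 ∧
      (∀ x ∈ els m22Pc 7, (∀ y ∈ m22Pc, compL x y = compL y x) → x = List.range 24 ∨ x = m22Z) ∧
      (∀ L ∈ derived [m22Z] m22Steps, L ∈ els m22Pc 7) ∧
      (∀ g ∈ m22Pc, g ∈ derived [m22Z] m22Steps) := by decide +kernel
  obtain ⟨hz, hz1, hcent, hderP, hder⟩ := hz
  obtain ⟨ζ', hζP, hζ⟩ := exists_of_mem_els pc22 7 le_rfl m22Z hz
  obtain ⟨ζ, rfl⟩ := pc_mem hζP
  refine isSimple_of_equiv φ Q (z := j ζ)
    (by rw [hQ]; exact ⟨ζ, hζP, rfl⟩) (fun he => hz1 ?_) ?_ ?_ ?_ S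
  · rw [← hζ, show ζ = 1 from j_injective (he.trans (map_one j).symm), map_one, toList_one]
  · intro x hx hc
    rw [hQ] at hx hc
    obtain ⟨m, hm, rfl⟩ := hx
    rcases hcent _ ((hE _).1 hm) fun y hy => by
        obtain ⟨u, hu⟩ := pc_mem (pcGroup_permL_mem pc22 hy)
        have h1 := j_injective (((map_mul j m u).trans
          (hc _ ⟨u, show iM u ∈ pcGroup m22Pc 7 from hu ▸ pcGroup_permL_mem pc22 hy, rfl⟩)).trans
          (map_mul j u m).symm)
        have h2 := congrArg (fun v : M => toList (iM v)) h1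
        simpa [toList_mul, hu, toList_permL (pc22.1 y hy).1 (pc22.1 y hy).2] using h2
      with h | h
    · refine Or.inl ?_
      rw [show m = 1 from iM_injective ((toList_injective (h.trans toList_one.symm)).trans
        (map_one iM).symm), map_one]
    · exact Or.inr (congrArg j (iM_injective (toList_injective (h.trans hζ.symm))))
  · intro T hzT hcl
    rw [hQ]
    rintro _ ⟨p, hp, rfl⟩
    have hle : pcGroup m22Pc 7 ≤ (T.comap j).map iM := by
      refine pcGroup_le pc22 fun g hg => ?_
      obtain ⟨σ, hσ, -, hσl⟩ := derived_mem (H := iM.range) (P := pcGroup m22Pc 7)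
        (T := (T.comap j).map iM) (fun σ hσ => pc_mem hσ)
        (fun x hx _ g hg hgP => by
          obtain ⟨u, hu, rfl⟩ := hx
          obtain ⟨v, rfl⟩ := hg
          refine ⟨v * u * v⁻¹, ?_, by simp⟩
          show j (v * u * v⁻¹) ∈ T
          rw [map_mul, map_mul, map_inv]
          refine hcl _ hu (j v) ?_
          rw [hQ, ← map_inv, ← map_mul, ← map_mul]
          exact ⟨_, show iM (v * u * v⁻¹) ∈ pcGroup m22Pc 7 by simpa using hgP, rfl⟩)
        m22Steps [m22Z]
        (fun L hL => ⟨iM ζ, ⟨ζ, hzT, rfl⟩, hζP, hζ.trans (List.mem_singleton.1 hL).symm⟩)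
        (fun s hs h1 => ⟨(in22w s hs h1).1, (in22w s hs h1).2.1, by
          obtain ⟨⟨h, h0⟩, h2⟩ := permL_mem_M22 (in22w s hs h1)
          exact ⟨⟨⟨permL s.2.1, h⟩, h0, h2⟩, rfl⟩⟩)
        (fun L hL σ hσ => (hE σ).2 (hσ ▸ hderP L hL)) g (hder g hg)
      rwa [(eq_iff_toList (pc22.1 g hg).1 (pc22.1 g hg).2).1 hσl] at hσ
    obtain ⟨u, hu, hue⟩ := hle hp
    rw [← iM_injective hue]
    exact hu
  · intro n hn q k hq hq2 hord y hy
    rw [hQ] at hy hn
    exact odd_centralize hn hq hq2 hord hy

/-- The group of the definition. -/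
noncomputable def eMcL : Spor.McL ≃* mclStab where
  toFun g := ⟨⟨g.1, g.2.1.1⟩, g.2.1.2, g.2.2⟩
  invFun g := ⟨g.1.1, ⟨g.1.2, g.2.1⟩, g.2.2⟩
  left_inv _ := rfl
  right_inv _ := rfl
  map_mul' _ _ := rfl

end CfsgLib.McLFusion
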